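import Cfsg.Agent.CosetEnum.He.Order

/-!
The subgroup of index 2058 of the presented Held group, on the printed generators, and its
suborbits.
-/

set_option autoImplicit false

namespace CfsgLib.CosetEnum.He

/-- the printed generators of the subgroup of index 2058 -/
abbrev printedGens : List (FreeGroup Cfsg.Spor.He.Gen) :=
  [Cfsg.Spor.He.a, Cfsg.Spor.He.c, Cfsg.Spor.He.d, Cfsg.Spor.He.e, Cfsg.Spor.He.f,
    (Cfsg.Spor.He.a * Cfsg.Spor.He.b) ^ 2,
    (Cfsg.Spor.He.b * Cfsg.Spor.He.c * Cfsg.Spor.He.d * Cfsg.Spor.He.e) ^ 7]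

/-- the printed generators as words -/
def printedWords : List (List ℕ) :=
  [[0], [2], [3], [4], [5], [0, 1, 0, 1],
    [1, 2, 3, 4, 1, 2, 3, 4, 1, 2, 3, 4, 1, 2, 3, 4, 1, 2, 3, 4, 1, 2, 3, 4, 1, 2, 3, 4]]

theorem printedWords_eq : printedGens.map (encWord enc fun y => y) = printedWords := by
  decide +kernel

theorem small_printed : smallWords printedWords = true := by decide +kernel

theorem printed_le : cl printedWords ≤ pointStab pi.range [P0] :=
  le_stab small_printed _ (by decide +kernel)

theorem mk_eq_gword (r : FreeGroup Cfsg.Spor.He.Gen) :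
    PresentedGroup.mk (Cfsg.Spor.coxRelators Cfsg.Spor.He.edges ∪
      {r | r ∈ Cfsg.Spor.He.extra}) r = gword g7 (encWord enc (fun y => y) r) := by
  refine map_eq_gword enc (fun y => y) _ g7 (fun x => ?_) (fun x => ?_) r
  · rw [g7, letterVal_lt gen (enc_lt x), gen, dec_enc]; rfl
  · rw [g7, letterVal_lt gen (enc_lt x), ← gen_inv, gen, dec_enc]; rfl

/-- The printed generators generate `Hs`. -/
theorem printed_eq :
    (Subgroup.closure {r | r ∈ printedGens}).map (PresentedGroup.mk
      (Cfsg.Spor.coxRelators Cfsg.Spor.He.edges ∪ {r | r ∈ Cfsg.Spor.He.extra})) = Hs := by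
  rw [MonoidHom.map_closure]
  refine le_antisymm ((Subgroup.closure_le _).2 ?_) ((Subgroup.closure_le _).2 ?_)
  · rintro _ ⟨r, hr, rfl⟩
    have hw : encWord enc (fun y => y) r ∈ printedWords :=
      printedWords_eq ▸ List.mem_map_of_mem hr
    rw [SetLike.mem_coe, mem_Hs_iff, mk_eq_gword, pi_gword _ (small small_printed _ hw)]
    exact (mem_pointStab.1 (printed_le (Subgroup.subset_closure ⟨_, hw, rfl⟩))).2 P0
      List.mem_cons_self
  · set K := Subgroup.closure ((PresentedGroup.mk
      (Cfsg.Spor.coxRelators Cfsg.Spor.He.edges ∪ {r | r ∈ Cfsg.Spor.He.extra})) ''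
        {r | r ∈ printedGens})
    have hmem : ∀ w ∈ printedWords, gword g7 w ∈ K := by
      intro w hw
      rw [← printedWords_eq] at hw
      obtain ⟨r, hr, rfl⟩ := List.mem_map.1 hw
      exact Subgroup.subset_closure ⟨r, hr, mk_eq_gword r⟩
    have hflat : ∀ l : List (List ℕ), (∀ v ∈ l, gword g7 v ∈ K) → gword g7 l.flatten ∈ K := by
      intro l hl
      induction l with
      | nil => exact one_mem K
      | cons v l ih =>
        have h : gword g7 (v :: l).flatten = gword g7 v * gword g7 l.flatten := by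
          simp [gword, List.map_append, List.prod_append]
        rw [h]
        exact mul_mem (hl v List.mem_cons_self) (ih fun u hu => hl u (List.mem_cons_of_mem _ hu))
    have h2 := hmem [2] (by decide)
    have h3 := hmem [3] (by decide)
    have h4 := hmem [4] (by decide)
    have h5 := hmem [5] (by decide)
    rintro _ ⟨w, hw, rfl⟩
    rcases List.mem_cons.1 hw with rfl | hw
    · exact h2
    rcases List.mem_cons.1 hw with rfl | hw
    · exact h3
    rcases List.mem_cons.1 hw with rfl | hw
    · exact h4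
    rcases List.mem_cons.1 hw with rfl | hw
    · exact h5
    rcases List.mem_cons.1 hw with rfl | hw
    · exact hmem _ (by decide)
    obtain rfl := List.mem_singleton.1 hw
    rw [SetLike.mem_coe, gword_eq_of_runT (v := [0, 1, 2, 3, 6, 3, 2, 1])
      (w := List.flatten [[0], [3], [2], [3], [2], [5], [3], [2], [3], [5],
        [1, 2, 3, 4, 1, 2, 3, 4, 1, 2, 3, 4, 1, 2, 3, 4, 1, 2, 3, 4, 1, 2, 3, 4, 1, 2, 3, 4],
        [5], [3], [2], [3], [5], [2], [3], [2], [3], [4]])
      (by decide) (by decide) (by decide +kernel)]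
    refine hflat _ fun v hv => hmem v ?_
    revert v
    decide

/-- The index and the four suborbits. -/
theorem index_and_suborbits (H : Subgroup Cfsg.Spor.He) (hH : H = Hs) :
    H.index = 2058 ∧ ∃ q₁ q₂ q₃ q₄ : Cfsg.Spor.He ⧸ H,
      MulAction.orbit H q₁ ≠ MulAction.orbit H q₂ ∧ (MulAction.orbit H q₁).ncard = 136 ∧
      (MulAction.orbit H q₂).ncard = 136 ∧ (MulAction.orbit H q₃).ncard = 425 ∧
      (MulAction.orbit H q₄).ncard = 1360 := by
  subst hH
  refine ⟨index_Hs_eq, ?_⟩
  obtain ⟨e, he⟩ := exists_coset_equiv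
  have hcard : ∀ (i : Fin Tab.perm.n) (c k : ℕ), Tab.labH i = c →
      countLabel Tab.labH c 2058 = k → (MulAction.orbit Hs (e.symm i)).ncard = k := by
    intro i c k hi hk
    rw [← Set.ncard_image_of_injective _ e.injective, coset_orbit e he i, ncard_orbit_H hi hk]
  have l3 : Tab.labH (pt 46 (by omega)) = 3 := by rw [pt_val]; decide +kernel
  have l4 : Tab.labH (pt 65 (by omega)) = 4 := by rw [pt_val]; decide +kernel
  refine ⟨e.symm (pt 46 (by omega)), e.symm (pt 65 (by omega)), e.symm (pt 2 (by omega)),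
    e.symm (pt 1 (by omega)), fun h => ?_, hcard _ 3 _ l3 count_H3, hcard _ 4 _ l4 count_H4,
    hcard _ 2 _ (by rw [pt_val]; decide +kernel) count_H2,
    hcard _ 1 _ (by rw [pt_val]; decide +kernel) count_H1⟩
  have h' : MulAction.orbit (cl Tab.wordsH) (pt 46 (by omega)) =
      MulAction.orbit (cl Tab.wordsH) (pt 65 (by omega)) := by
    rw [← coset_orbit e he, ← coset_orbit e he, h]
  have hmem : pt 46 (by omega) ∈ MulAction.orbit (cl Tab.wordsH) (pt 65 (by omega)) :=
    h' ▸ MulAction.mem_orbit_self _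
  rw [orbit_H, Set.mem_ofPred_eq, l3, l4] at hmem
  exact absurd hmem (by omega)

end CfsgLib.CosetEnum.He
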